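import Groth.Agent.Comod.Coeff
import Mathlib

/-!
# A finite commutative Hopf algebra is free over the coinvariants of a Hopf ideal
-/

set_option autoImplicit false
set_option maxHeartbeats 800000
universe u v w

open TensorProduct

namespace Groth.Agent.FinQuot

open Groth.Agent.Comod

/-- local spanning families glue over a semilocal ring -/
theorem exists_spanning {B : Type w} [CommRing B] [Fintype (MaximalSpectrum B)] {A : Type v} [AddCommGroup A]
    [Module B A] [Module.Finite B A] (n : ℕ)
    (hloc : ∀ q : MaximalSpectrum B, ∃ v : Fin n → A,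
      Submodule.span B (Set.range v) ⊔ (q.asIdeal • ⊤ : Submodule B A) = ⊤) :
    ∃ a : Fin n → A, Submodule.span B (Set.range a) = ⊤ := by
  classical
  choose v hv using hloc
  -- glue them
  have hco : Pairwise fun i j : MaximalSpectrum B => IsCoprime i.asIdeal j.asIdeal := fun i j hij =>
    (Ideal.isCoprime_iff_sup_eq).2 (i.isMaximal.coprime_of_ne j.isMaximal fun h => hij (MaximalSpectrum.ext h))
  have he : ∀ i : MaximalSpectrum B, ∃ e : B, e - 1 ∈ i.asIdeal ∧ ∀ j, j ≠ i → e ∈ j.asIdeal := by
    intro i
    obtain ⟨e, he⟩ := Ideal.quotientInfToPiQuotient_surj hco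
      (fun j => if j = i then 1 else 0)
    obtain ⟨e, rfl⟩ := Ideal.Quotient.mk_surjective e
    refine ⟨e, ?_, fun j hj => ?_⟩
    · have := congrFun he i
      simp [Ideal.quotientInfToPiQuotient] at this
      exact Ideal.Quotient.eq.1 (by simpa using this)
    · have := congrFun he j
      simp [Ideal.quotientInfToPiQuotient, hj] at this
      exact Ideal.Quotient.eq_zero_iff_mem.1 this
  choose e he1 he0 using he
  let a : Fin n → A := fun i => ∑ q, e q • v q i
  have hspan : Submodule.span B (Set.range a) = ⊤ := by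
    by_contra hne
    set N := Submodule.span B (Set.range a)
    have hN : ∀ q : MaximalSpectrum B, (⊤ : Submodule B (A ⧸ N)) ≤ q.asIdeal • ⊤ := by
      intro q
      have hai : ∀ i, a i - v q i ∈ (q.asIdeal • ⊤ : Submodule B A) := by
        intro i
        show (∑ q', e q' • v q' i) - v q i ∈ _
        rw [← Finset.add_sum_erase _ _ (Finset.mem_univ q), add_sub_right_comm]
        refine add_mem ?_ (Submodule.sum_mem _ fun q' hq' => ?_)
        · have : e q • v q i - v q i = (e q - 1) • v q i := by rw [sub_smul, one_smul]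
          rw [this]
          exact Submodule.smul_mem_smul (he1 q) trivial
        · exact Submodule.smul_mem_smul (he0 q' q (fun h => (Finset.ne_of_mem_erase hq') h.symm)) trivial
      have htop : N ⊔ (q.asIdeal • ⊤ : Submodule B A) = ⊤ := by
        refine eq_top_iff.2 ((hv q).ge.trans (sup_le (Submodule.span_le.2 ?_) le_sup_right))
        rintro _ ⟨i, rfl⟩
        rw [← sub_sub_cancel (a i) (v q i)]
        exact Submodule.sub_mem _ (Submodule.mem_sup_left (Submodule.subset_span ⟨i, rfl⟩))
          (Submodule.mem_sup_right (hai i))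
      have := congrArg (Submodule.map N.mkQ) htop
      rw [Submodule.map_sup, Submodule.mkQ_map_self, bot_sup_eq, Submodule.map_smul'', Submodule.map_top,
        Submodule.range_mkQ] at this
      exact this.ge
    have hann : ∀ q : MaximalSpectrum B, ∃ r : B, r - 1 ∈ q.asIdeal ∧ ∀ z : A ⧸ N, r • z = 0 := fun q => by
      obtain ⟨r, hr, hr'⟩ := Submodule.exists_sub_one_mem_and_smul_eq_zero_of_fg_of_le_smul q.asIdeal ⊤
        Module.Finite.fg_top (hN q)
      exact ⟨r, hr, fun z => hr' z trivial⟩
    by_cases htopann : Module.annihilator B (A ⧸ N) = ⊤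
    · apply hne
      rw [eq_top_iff]
      intro x _
      have h1 : (1 : B) ∈ Module.annihilator B (A ⧸ N) := by rw [htopann]; trivial
      have h2 := Module.mem_annihilator.1 h1 (N.mkQ x)
      rwa [one_smul, Submodule.mkQ_apply, Submodule.Quotient.mk_eq_zero] at h2
    · obtain ⟨q, hq, hle⟩ := Ideal.exists_le_maximal _ htopann
      obtain ⟨r, hr, hr'⟩ := hann ⟨q, hq⟩
      apply hq.ne_top
      rw [Ideal.eq_top_iff_one]
      have hrq : r ∈ q := hle (Module.mem_annihilator.2 hr')
      have := Ideal.sub_mem q hrq hr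
      simpa using this
  exact ⟨a, hspan⟩

variable {k : Type u} [Field k] {A : Type v} [CommRing A] [HopfAlgebra k A]
variable {S : Type w} [CommRing S] [Algebra k S]

/-- translation by a point, as an algebra map -/
noncomputable def transl (g : A →ₐ[k] S) : A →ₐ[k] A ⊗[k] S :=
  (Algebra.TensorProduct.map (AlgHom.id k A) g).comp (Bialgebra.comulAlgHom k A)

theorem transl_apply (g : A →ₐ[k] S) (x : A) :
    transl g x = g.toLinearMap.lTensor A (Coalgebra.comul (R := k) x) := rfl

theorem slL_counit_transl (g : A →ₐ[k] S) (x : A) : slL (Coalgebra.counit (R := k)) (transl g x) = g x := by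
  rw [transl_apply, slL_lTensor]
  simp [slL]

theorem transl_coeff (g : A →ₐ[k] S) (φ : A →ₗ[k] k) (x : A) :
    transl g (slL φ (Coalgebra.comul (R := k) x)) =
      (slL φ ∘ₗ Coalgebra.comul (R := k)).rTensor S (transl g x) := by
  rw [transl_apply, transl_apply, show Coalgebra.comul (R := k) (slL φ (Coalgebra.comul (R := k) x)) =
      slL φ ((Coalgebra.comul (R := k)).lTensor A (Coalgebra.comul (R := k) x)) by rw [slL_lTensor],
    ← Coalgebra.coassoc_apply]
  generalize Coalgebra.comul (R := k) x = y
  induction y with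
  | zero => simp
  | add y z hy hz => simp only [map_add, hy, hz]
  | tmul p q =>
    simp only [LinearMap.rTensor_tmul, LinearMap.lTensor_tmul, LinearMap.comp_apply]
    generalize Coalgebra.comul (R := k) p = z
    induction z with
    | zero => simp
    | add y z hy hz => simp only [map_add, add_tmul, hy, hz]
    | tmul s t => simp [TensorProduct.smul_tmul']

/-- semi-invariants of a given weight -/
noncomputable def semiInv (g : A →ₐ[k] S) (χ : S) : Submodule k A :=
  LinearMap.ker ((transl g).toLinearMap - (TensorProduct.mk k A S).flip χ)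

theorem mem_semiInv {g : A →ₐ[k] S} {χ : S} {x : A} : x ∈ semiInv g χ ↔ transl g x = x ⊗ₜ[k] χ := by
  simp [semiInv, sub_eq_zero]

theorem comul_mem_semiInv {g : A →ₐ[k] S} {χ : S} {x : A} (hx : x ∈ semiInv g χ) :
    Coalgebra.comul (R := k) x ∈ LinearMap.range ((semiInv g χ).subtype.lTensor A) := by
  refine mem_range_lTensor_of_slL fun φ => ?_
  rw [mem_semiInv, transl_coeff, mem_semiInv.1 hx]
  rfl

/-- semi-invariants generate the unit ideal as soon as one of them does not vanish at the origin -/
theorem span_semiInv_eq_top {g : A →ₐ[k] S} {χ : S} {x : A} (hx : x ∈ semiInv g χ)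
    (h1 : Coalgebra.counit (R := k) x = 1) : Ideal.span (semiInv g χ : Set A) = ⊤ := by
  rw [Ideal.eq_top_iff_one]
  have h := HopfAlgebra.mul_antipode_rTensor_comul_apply (R := k) x
  rw [h1, map_one] at h
  rw [← h]
  obtain ⟨y, hy⟩ := comul_mem_semiInv hx
  rw [← hy]
  clear hy
  induction y with
  | zero => simp
  | add y z hy hz => simp only [map_add]; exact add_mem hy hz
  | tmul p q => simpa using Ideal.mul_mem_left _ _ (Ideal.subset_span q.2)

theorem exists_unit_semiInv [Infinite k] [Module.Finite k A] {g : A →ₐ[k] S} {χ : S} {x : A}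
    (hx : x ∈ semiInv g χ) (h1 : Coalgebra.counit (R := k) x = 1) : ∃ u ∈ semiInv g χ, IsUnit u := by
  haveI : IsArtinianRing A := IsArtinianRing.of_finite k A
  by_contra hcon
  push Not at hcon
  let p : MaximalSpectrum A → Subspace k (semiInv g χ) := fun m =>
    (m.asIdeal.restrictScalars k).comap (semiInv g χ).subtype
  have hcov : ⋃ m, (p m : Set (semiInv g χ)) = Set.univ := by
    refine Set.eq_univ_of_forall fun y => ?_
    obtain ⟨m, hm, hym⟩ := exists_max_ideal_of_mem_nonunits (hcon y.1 y.2)
    exact Set.mem_iUnion.2 ⟨⟨m, hm⟩, hym⟩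
  obtain ⟨m, hm⟩ := Subspace.exists_eq_top_of_iUnion_eq_univ hcov
  apply m.isMaximal.ne_top
  rw [eq_top_iff, ← span_semiInv_eq_top hx h1, Ideal.span_le]
  exact fun y hy => (show (⟨y, hy⟩ : semiInv g χ) ∈ p m by rw [hm]; trivial)

section Main

variable (I : Ideal A) [I.IsHopfIdeal k]

variable (k) in
/-- the coinvariants of `A` for the subgroup cut out by `I` -/
noncomputable def coinv : Subalgebra k A :=
  AlgHom.equalizer (transl (Ideal.Quotient.mkₐ k I))
    (Algebra.TensorProduct.includeLeft : A →ₐ[k] A ⊗[k] (A ⧸ I))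

theorem mem_coinv {b : A} : b ∈ coinv k I ↔ transl (Ideal.Quotient.mkₐ k I) b = b ⊗ₜ[k] 1 := Iff.rfl

theorem comul_mem_coinv {b : A} (hb : b ∈ coinv k I) :
    Coalgebra.comul (R := k) b ∈ LinearMap.range ((coinv k I).toSubmodule.subtype.lTensor A) := by
  refine mem_range_lTensor_of_slL fun φ => ?_
  rw [Subalgebra.mem_toSubmodule, mem_coinv, transl_coeff, (mem_coinv I).1 hb]
  rfl

theorem map_map_comul_eq_zero {x : A} (hx : x ∈ I) :
    TensorProduct.map (Ideal.Quotient.mkₐ k I).toLinearMap (Ideal.Quotient.mkₐ k I).toLinearMap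
      (Coalgebra.comul (R := k) x) = 0 := by
  have h := CoalgHomClass.map_comp_comul_apply (Bialgebra.Quotient.mkBialgHom (R := k) I) x
  have hz : Bialgebra.Quotient.mkBialgHom (R := k) I x = 0 := Ideal.Quotient.eq_zero_iff_mem.2 hx
  rw [hz, map_zero] at h
  exact h

/-- a Hopf ideal of a finite Hopf algebra is generated by the coinvariants vanishing at the origin -/
theorem mem_span_of_mem [Infinite k] [Module.Finite k A] {x : A} (hxI : x ∈ I) :
    x ∈ Ideal.span {b : A | b ∈ coinv k I ∧ Coalgebra.counit (R := k) b = 0} := by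
  classical
  set K := Ideal.span {b : A | b ∈ coinv k I ∧ Coalgebra.counit (R := k) b = 0}
  let π := Ideal.Quotient.mkₐ k I
  let bI := Module.finBasis k (I.restrictScalars k)
  let d := Module.finrank k (I.restrictScalars k)
  let w : Fin d → A := fun j => (bI j : A)
  have hεI : ∀ y ∈ I, Coalgebra.counit (R := k) y = 0 := fun y hy => by
    rw [← CoalgHomClass.counit_comp_apply (Bialgebra.Quotient.mkBialgHom (R := k) I) y]
    show Coalgebra.counit (R := k) (Ideal.Quotient.mk I y) = 0
    rw [Ideal.Quotient.eq_zero_iff_mem.2 hy, map_zero]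
  obtain ⟨P, hP⟩ := LinearMap.exists_leftInverse_of_injective (I.restrictScalars k).subtype
    (Submodule.ker_subtype _)
  have hP' : ∀ y : I.restrictScalars k, P y.1 = y := fun y => LinearMap.congr_fun hP y
  let φ : Fin d → (A →ₗ[k] k) := fun l => bI.coord l ∘ₗ P
  have hφ : ∀ l j, φ l (w j) = if l = j then 1 else 0 := fun l j => by
    simp [φ, w, hP', Module.Basis.coord_apply, Finsupp.single_apply, eq_comm]
  let a : (A →ₗ[k] k) → Fin d → A := fun ψ j => slL ψ (Coalgebra.comul (R := k) (w j))
  have hεa : ∀ ψ j, Coalgebra.counit (R := k) (a ψ j) = ψ (w j) := by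
    intro ψ j
    show Coalgebra.counit (R := k) (slL ψ _) = _
    rw [← slL_lTensor]
    simp
  let Φ : Option (Fin d) → Fin d → (A →ₗ[k] k) := fun o =>
    o.elim φ (fun i => Function.update φ i (Coalgebra.counit (R := k)))
  let Mat : Option (Fin d) → Matrix (Fin d) (Fin d) A := fun o => Matrix.of fun l j => a (Φ o l) j
  let m : Option (Fin d) → A := fun o => (Mat o).det
  have hεm : ∀ o, Coalgebra.counit (R := k) (m o) = if o = none then 1 else 0 := by
    intro o
    show Bialgebra.counitAlgHom k A (Mat o).det = _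
    rw [AlgHom.map_det]
    rcases o with _ | i
    · rw [if_pos rfl]
      convert Matrix.det_one (n := Fin d) (R := k)
      ext l j
      simp [Mat, Φ, hεa, hφ, Matrix.one_apply]
    · rw [if_neg (by simp)]
      refine Matrix.det_eq_zero_of_row_eq_zero i fun j => ?_
      simp [Mat, Φ, hεa, hεI (w j) (bI j).2]
  have hexp : ∀ j, transl π (w j) = ∑ l, w l ⊗ₜ[k] π (a (φ l) j) := by
    intro j
    have hq : π.toLinearMap.rTensor (A ⧸ I) (transl π (w j)) = 0 := by
      rw [transl_apply, ← LinearMap.comp_apply, LinearMap.rTensor_comp_lTensor]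
      exact map_map_comul_eq_zero I (bI j).2
    obtain ⟨z, hz⟩ := ((Module.Flat.rTensor_exact (R := k) (A ⧸ I) π.toLinearMap.exact_subtype_ker_map) _).1 hq
    have hgen : ∀ z : (LinearMap.ker π.toLinearMap) ⊗[k] (A ⧸ I),
        (LinearMap.ker π.toLinearMap).subtype.rTensor (A ⧸ I) z =
        ∑ l, w l ⊗ₜ[k] slL (φ l) ((LinearMap.ker π.toLinearMap).subtype.rTensor (A ⧸ I) z) := by
      intro z
      induction z with
      | zero => simp
      | add y z hy hz => simp only [map_add, tmul_add, Finset.sum_add_distrib, ← hy, ← hz]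
      | tmul y r =>
        have hy : (y : A) = ∑ l, φ l (y : A) • w l := by
          have hyI : (y : A) ∈ I.restrictScalars k := Ideal.Quotient.eq_zero_iff_mem.1 y.2
          have hb := congrArg Subtype.val (bI.sum_repr ⟨y, hyI⟩)
          simp only [Submodule.coe_sum, Submodule.coe_smul] at hb
          refine hb.symm.trans (Finset.sum_congr rfl fun l _ => ?_)
          show _ = bI.repr (P y) l • w l
          rw [show P (y : A) = ⟨y, hyI⟩ from hP' ⟨y, hyI⟩]
        simp only [LinearMap.rTensor_tmul, Submodule.coe_subtype, slL_tmul]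
        conv_lhs => rw [hy]
        rw [TensorProduct.sum_tmul]
        exact Finset.sum_congr rfl fun l _ => by rw [TensorProduct.smul_tmul]
    rw [← hz, hgen z]
    refine Finset.sum_congr rfl fun l _ => ?_
    rw [hz, transl_apply, slL_lTensor]
    rfl
  let G : Matrix (Fin d) (Fin d) (A ⧸ I) := Matrix.of fun l j => π (a (φ l) j)
  have ht : ∀ o, m o ∈ semiInv π G.det := by
    intro o
    rw [mem_semiInv]
    show transl π (Mat o).det = _
    have hmat : (transl π).mapMatrix (Mat o) =
        ((Algebra.TensorProduct.includeLeft : A →ₐ[k] A ⊗[k] (A ⧸ I)).mapMatrix (Mat o)) *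
          ((Algebra.TensorProduct.includeRight : (A ⧸ I) →ₐ[k] A ⊗[k] (A ⧸ I)).mapMatrix G) := by
      ext l j
      simp only [AlgHom.mapMatrix_apply, Matrix.map_apply, Matrix.mul_apply, Mat, G, Matrix.of_apply,
        Algebra.TensorProduct.includeLeft_apply, Algebra.TensorProduct.includeRight_apply,
        Algebra.TensorProduct.tmul_mul_tmul, _root_.mul_one, _root_.one_mul]
      show transl π (slL (Φ o l) (Coalgebra.comul (R := k) (w j))) = _
      rw [transl_coeff, hexp j, map_sum]
      rfl
    rw [AlgHom.map_det, hmat, Matrix.det_mul, ← AlgHom.map_det, ← AlgHom.map_det]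
    simp [m]
  obtain ⟨u, hu, huu⟩ := exists_unit_semiInv (ht none) (by rw [hεm, if_pos rfl])
  have hεu : IsUnit (Coalgebra.counit (R := k) u) := huu.map (Bialgebra.counitAlgHom k A)
  obtain ⟨uu, rfl⟩ := huu
  have hχ : IsUnit G.det := by
    have := congrArg (slL (Coalgebra.counit (R := k))) (mem_semiInv.1 hu)
    rw [slL_counit_transl, slL_tmul] at this
    have h2 : IsUnit (π (uu : A)) := uu.isUnit.map π
    rw [this, Algebra.smul_def] at h2
    exact isUnit_of_mul_isUnit_right h2
  -- ratios of semi-invariants of equal weight are coinvariant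
  have hratio : ∀ o, (↑uu⁻¹ : A) * m o ∈ coinv k I := by
    intro o
    rw [mem_coinv]
    have h1 : transl π (uu : A) * transl π ((↑uu⁻¹ : A) * m o) = transl π (m o) := by
      rw [← map_mul, ← _root_.mul_assoc, Units.mul_inv, _root_.one_mul]
    rw [mem_semiInv.1 (ht o), mem_semiInv.1 hu] at h1
    have hunit : IsUnit ((uu : A) ⊗ₜ[k] G.det) := by
      rw [show (uu : A) ⊗ₜ[k] G.det = ((uu : A) ⊗ₜ[k] (1 : A ⧸ I)) * ((1 : A) ⊗ₜ[k] G.det) by simp]
      exact (uu.isUnit.map (Algebra.TensorProduct.includeLeft : A →ₐ[k] A ⊗[k] (A ⧸ I))).mul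
        (hχ.map (Algebra.TensorProduct.includeRight : (A ⧸ I) →ₐ[k] A ⊗[k] (A ⧸ I)))
    refine hunit.mul_left_cancel (h1.trans ?_)
    rw [Algebra.TensorProduct.tmul_mul_tmul, ← _root_.mul_assoc, Units.mul_inv, _root_.one_mul, _root_.mul_one]
  let g := Ideal.Quotient.mkₐ k K
  have hgm : ∀ o, g ((↑uu⁻¹ : A) * m o) =
      algebraMap k (A ⧸ K) (Coalgebra.counit (R := k) (↑uu⁻¹ : A) * if o = none then 1 else 0) := by
    intro o
    rw [← AlgHom.commutes g]
    apply (Ideal.Quotient.eq).2
    apply Ideal.subset_span
    refine ⟨Subalgebra.sub_mem _ (hratio o) (Subalgebra.algebraMap_mem _ _), ?_⟩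
    rw [map_sub, Bialgebra.counit_algebraMap, Bialgebra.counit_mul, hεm o, sub_self]
  have hgm0 : ∀ i, g (m (some i)) = 0 := by
    intro i
    have := hgm (some i)
    rw [if_neg (by simp), MulZeroClass.mul_zero, map_zero, map_mul] at this
    have h2 : IsUnit (g (↑uu⁻¹ : A)) := (uu⁻¹).isUnit.map g
    exact h2.mul_right_eq_zero.1 this
  let N : Matrix (Fin d) (Fin d) (A ⧸ K) := Matrix.of fun l j => g (a (φ l) j)
  have hN : IsUnit N.det := by
    have hNd : g (m none) = N.det := AlgHom.map_det g (Mat none)
    have := hgm none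
    rw [if_pos rfl, _root_.mul_one, map_mul, hNd] at this
    have h2 : IsUnit (algebraMap k (A ⧸ K) (Coalgebra.counit (R := k) (↑uu⁻¹ : A))) :=
      ((uu⁻¹).isUnit.map (Bialgebra.counitAlgHom k A)).map _
    rw [← this] at h2
    exact isUnit_of_mul_isUnit_right h2
  let r : Fin d → A ⧸ K := fun j => g (a (Coalgebra.counit (R := k)) j)
  have h0 : ∀ i, (N.updateRow i r).det = 0 := by
    intro i
    have := hgm0 i
    rw [show m (some i) = (Mat (some i)).det from rfl, AlgHom.map_det] at this
    rw [← this]
    congr 1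
    ext l j
    by_cases hl : l = i
    · subst hl; simp [Mat, Φ, r]
    · simp [Mat, Φ, N, Matrix.updateRow_ne hl, Function.update_of_ne hl]
  have h1 : N.transpose.adjugate.mulVec r = 0 := by
    funext i
    rw [← Matrix.cramer_eq_adjugate_mulVec, Matrix.cramer_transpose_apply]
    exact h0 i
  have h2 : N.transpose.det • r = 0 := by
    rw [← Matrix.one_mulVec r, ← Matrix.smul_mulVec, ← Matrix.mul_adjugate, ← Matrix.mulVec_mulVec, h1,
      Matrix.mulVec_zero]
  have hw : ∀ j, g (w j) = 0 := by
    intro j
    have h3 := congrFun h2 j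
    rw [Matrix.det_transpose, Pi.smul_apply, smul_eq_mul, Pi.zero_apply] at h3
    have h5 : a (Coalgebra.counit (R := k)) j = w j := by simp [a, slL]
    rw [← h5]
    exact hN.mul_right_eq_zero.1 h3
  have hsum := congrArg (fun z : I.restrictScalars k => g (z : A)) (bI.sum_repr ⟨x, hxI⟩)
  simp only [Submodule.coe_sum, Submodule.coe_smul, map_sum, map_smul] at hsum
  rw [← Ideal.Quotient.eq_zero_iff_mem]
  refine hsum.symm.trans (Finset.sum_eq_zero fun j _ => ?_)
  rw [show g (bI j : A) = 0 from hw j, smul_zero]

/-- the Galois map is onto -/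
theorem span_range_transl :
    Submodule.span A (Set.range (transl (Ideal.Quotient.mkₐ k I))) = ⊤ := by
  rw [eq_top_iff]
  rintro z -
  induction z with
  | zero => exact zero_mem _
  | add y z hy hz => exact add_mem hy hz
  | tmul a c =>
    obtain ⟨c, rfl⟩ := Ideal.Quotient.mk_surjective c
    let π := Ideal.Quotient.mkₐ k I
    let F : A ⊗[k] A →ₗ[k] A ⊗[k] (A ⧸ I) :=
      TensorProduct.lift ((LinearMap.mul k (A ⊗[k] (A ⧸ I))).compl₁₂
        ((Algebra.TensorProduct.includeLeft : A →ₐ[k] A ⊗[k] (A ⧸ I)).toLinearMap ∘ₗ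
          HopfAlgebraStruct.antipode k)
        (transl π).toLinearMap)
    have hF : ∀ y, F y ∈ Submodule.span A (Set.range (transl π)) := by
      intro y
      induction y with
      | zero => simp
      | add y z hy hz => rw [map_add]; exact add_mem hy hz
      | tmul p q =>
        have : F (p ⊗ₜ q) = HopfAlgebraStruct.antipode k p • transl π q := by
          simp [F, Algebra.smul_def, Algebra.TensorProduct.algebraMap_apply]
        rw [this]
        exact Submodule.smul_mem _ _ (Submodule.subset_span ⟨q, rfl⟩)
    have hFc : F (Coalgebra.comul (R := k) c) = (1 : A) ⊗ₜ[k] π c := by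
      let H : A ⊗[k] (A ⊗[k] A) →ₗ[k] A ⊗[k] (A ⧸ I) :=
        TensorProduct.map (LinearMap.mul' k A ∘ₗ (HopfAlgebraStruct.antipode k).rTensor A) π.toLinearMap ∘ₗ
          (TensorProduct.assoc k A A A).symm.toLinearMap
      have e1 : ∀ y : A ⊗[k] A, F y = H ((Coalgebra.comul (R := k)).lTensor A y) := by
        intro y
        induction y with
        | zero => simp
        | add y z hy hz => simp only [map_add, hy, hz]
        | tmul p q =>
          simp only [F, TensorProduct.lift.tmul, LinearMap.compl₁₂_apply, LinearMap.comp_apply,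
            AlgHom.toLinearMap_apply, LinearMap.mul_apply', LinearMap.lTensor_tmul, transl_apply,
            Algebra.TensorProduct.includeLeft_apply]
          generalize Coalgebra.comul (R := k) q = z
          induction z with
          | zero => simp
          | add y z hy hz => simp only [map_add, tmul_add, mul_add, hy, hz]
          | tmul s t => simp [H]
      rw [e1, ← Coalgebra.coassoc_apply]
      have e2 : ∀ y : A ⊗[k] A, H (TensorProduct.assoc k A A A ((Coalgebra.comul (R := k)).rTensor A y)) =
          (1 : A) ⊗ₜ[k] π (slL (Coalgebra.counit (R := k)) y) := by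
        intro y
        induction y with
        | zero => simp
        | add y z hy hz => simp only [map_add, tmul_add, hy, hz]
        | tmul p q =>
          simp only [H, LinearMap.comp_apply, LinearEquiv.coe_coe, LinearEquiv.symm_apply_apply,
            LinearMap.rTensor_tmul, TensorProduct.map_tmul, HopfAlgebra.mul_antipode_rTensor_comul_apply,
            slL_tmul, map_smul, AlgHom.toLinearMap_apply]
          rw [Algebra.algebraMap_eq_smul_one, TensorProduct.smul_tmul]
      rw [e2]
      simp [slL]
    have h := Submodule.smul_mem (Submodule.span A (Set.range (transl π))) a (hF (Coalgebra.comul (R := k) c))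
    rw [hFc] at h
    simpa [TensorProduct.smul_tmul', π] using h

/-- the fibre of `A` over the coinvariants at a point is no bigger than the subgroup -/
theorem exists_surjective_fibre [Infinite k] [Module.Finite k A] (α : A →ₐ[k] k) (p : Ideal (coinv k I))
    (hp : ∀ b : coinv k I, b - algebraMap k (coinv k I) (α b) ∈ p) :
    ∃ ψ : (A ⧸ I) →ₗ[k] A ⧸ Ideal.map (algebraMap (coinv k I) A) p, Function.Surjective ψ := by
  set P := Ideal.map (algebraMap (coinv k I) A) p
  let mk := Ideal.Quotient.mkₐ k P
  let ψ₀ : A →ₗ[k] A ⧸ P :=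
    TensorProduct.lift ((LinearMap.lsmul k (A ⧸ P)).compl₁₂ (α.toLinearMap ∘ₗ HopfAlgebraStruct.antipode k)
      mk.toLinearMap) ∘ₗ Coalgebra.comul (R := k)
  have hψ₀ : ∀ (b : coinv k I) (c : A), ψ₀ ((b : A) * c) = Coalgebra.counit (R := k) (b : A) • ψ₀ c := by
    intro b c
    let Λ := TensorProduct.lift ((LinearMap.lsmul k (A ⧸ P)).compl₁₂
      (α.toLinearMap ∘ₗ HopfAlgebraStruct.antipode k) mk.toLinearMap)
    obtain ⟨y, hy⟩ := comul_mem_coinv I b.2
    have h1 : ∀ (y : A ⊗[k] (coinv k I).toSubmodule) (z : A ⊗[k] A),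
        Λ ((coinv k I).toSubmodule.subtype.lTensor A y * z) =
          α (LinearMap.mul' k A ((HopfAlgebraStruct.antipode k).rTensor A
            ((coinv k I).toSubmodule.subtype.lTensor A y))) • Λ z := by
      intro y z
      induction y with
      | zero => simp
      | add y y' hy hy' => simp only [map_add, add_mul, add_smul, hy, hy']
      | tmul p' q =>
        induction z with
        | zero => simp
        | add z z' hz hz' => simp only [mul_add, map_add, smul_add, hz, hz']
        | tmul s t =>
          have hq : mk ((q : A) * t) = α (q : A) • mk t := by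
            have hm : mk (q : A) = algebraMap k (A ⧸ P) (α (q : A)) := by
              rw [← AlgHom.commutes mk]
              exact Ideal.Quotient.eq.2 (Ideal.mem_map_of_mem (algebraMap (coinv k I) A) (hp ⟨q, q.2⟩))
            rw [map_mul, hm, Algebra.smul_def]
          simp only [Λ, LinearMap.lTensor_tmul, Submodule.coe_subtype, Algebra.TensorProduct.tmul_mul_tmul,
            TensorProduct.lift.tmul, LinearMap.compl₁₂_apply, LinearMap.comp_apply, AlgHom.toLinearMap_apply,
            LinearMap.lsmul_apply, LinearMap.rTensor_tmul, LinearMap.mul'_apply, HopfAlgebra.antipode_mul, map_mul,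
            hq, smul_smul]
          congr 1
          ring
    show Λ (Coalgebra.comul (R := k) ((b : A) * c)) = _ • Λ (Coalgebra.comul (R := k) c)
    rw [Bialgebra.comul_mul, ← hy, h1, hy, HopfAlgebra.mul_antipode_rTensor_comul_apply, AlgHom.commutes]
    rfl
  have hker : I.restrictScalars k ≤ LinearMap.ker ψ₀ := by
    intro x hx
    have hx' := mem_span_of_mem (k := k) I hx
    rw [LinearMap.mem_ker]
    clear hx
    induction hx' using Submodule.span_induction with
    | mem b hb =>
      have := hψ₀ ⟨b, hb.1⟩ 1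
      rw [show ((⟨b, hb.1⟩ : coinv k I) : A) * 1 = b from _root_.mul_one b] at this
      rw [this, hb.2, zero_smul]
    | zero => simp
    | add y z hy hz hy' hz' => rw [map_add, hy', hz', add_zero]
    | smul c y hy hy' =>
      clear hy'
      induction hy using Submodule.span_induction generalizing c with
      | mem b hb =>
        rw [smul_eq_mul, mul_comm, show b = ((⟨b, hb.1⟩ : coinv k I) : A) from rfl, hψ₀]
        show Coalgebra.counit (R := k) b • _ = 0
        rw [hb.2, zero_smul]
      | zero => simp
      | add y z _ _ hy hz => rw [smul_add, map_add, hy c, hz c, add_zero]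
      | smul e y _ hy => rw [smul_smul]; exact hy _
  refine ⟨(I.restrictScalars k).liftQ ψ₀ hker ∘ₗ (Submodule.Quotient.restrictScalarsEquiv k I).symm.toLinearMap,
    fun z => ?_⟩
  obtain ⟨a, rfl⟩ := Ideal.Quotient.mk_surjective z
  -- `a ↦ α(a₁)[a₂]` is a right inverse
  refine ⟨slL α.toLinearMap (transl (Ideal.Quotient.mkₐ k I) a), ?_⟩
  rw [transl_apply, slL_lTensor]
  show ((I.restrictScalars k).liftQ ψ₀ hker) (Submodule.Quotient.mk (slL α.toLinearMap (Coalgebra.comul (R := k) a))) = _
  rw [Submodule.liftQ_apply]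
  show TensorProduct.lift _ (Coalgebra.comul (R := k) (slL α.toLinearMap (Coalgebra.comul (R := k) a))) = _
  rw [← slL_lTensor (Coalgebra.comul (R := k)) α.toLinearMap]
  rw [show slL α.toLinearMap ((Coalgebra.comul (R := k)).lTensor A (Coalgebra.comul (R := k) a)) =
      slL α.toLinearMap (TensorProduct.assoc k A A A ((Coalgebra.comul (R := k)).rTensor A (Coalgebra.comul (R := k) a)))
    by rw [Coalgebra.coassoc_apply]]
  have e : ∀ y : A ⊗[k] A, TensorProduct.lift ((LinearMap.lsmul k (A ⧸ P)).compl₁₂
      (α.toLinearMap ∘ₗ HopfAlgebraStruct.antipode k) mk.toLinearMap)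
      (slL α.toLinearMap (TensorProduct.assoc k A A A ((Coalgebra.comul (R := k)).rTensor A y))) =
      mk (slL (Coalgebra.counit (R := k)) y) := by
    intro y
    induction y with
    | zero => simp
    | add y z hy hz => simp only [map_add, hy, hz]
    | tmul p' q =>
      rw [slL_tmul, map_smul, LinearMap.rTensor_tmul]
      have h2 : ∀ w : A ⊗[k] A, TensorProduct.lift ((LinearMap.lsmul k (A ⧸ P)).compl₁₂
          (α.toLinearMap ∘ₗ HopfAlgebraStruct.antipode k) mk.toLinearMap)
          (slL α.toLinearMap (TensorProduct.assoc k A A A (w ⊗ₜ q))) =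
          α (LinearMap.mul' k A ((HopfAlgebraStruct.antipode k).lTensor A w)) • mk q := by
        intro w
        induction w with
        | zero => simp
        | add y z hy hz => simp only [map_add, add_tmul, add_smul, hy, hz]
        | tmul s t => simp [smul_smul]
      rw [h2, HopfAlgebra.mul_antipode_lTensor_comul_apply, AlgHom.commutes]
      rfl
  rw [e]
  simp [slL, mk]

/-- a finite Hopf algebra is free over the coinvariants -/
theorem free_finrank [IsAlgClosed k] [Module.Finite k A] :
    Module.Free (coinv k I) A ∧ Module.finrank (coinv k I) A = Module.finrank k (A ⧸ I) := by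
  classical
  set B := coinv k I
  haveI : Module.Finite k B := inferInstanceAs (Module.Finite k B.toSubmodule)
  haveI : IsArtinianRing B := IsArtinianRing.of_finite k B
  haveI : Module.Finite B A := Module.Finite.of_restrictScalars_finite k B A
  haveI : Nontrivial A := (Bialgebra.counitAlgHom k A).toRingHom.domain_nontrivial
  haveI : Nontrivial B := (algebraMap B A).domain_nontrivial
  set n := Module.finrank k (A ⧸ I)
  haveI : Fintype (MaximalSpectrum B) := Fintype.ofFinite _
  -- spanning families modulo each maximal ideal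
  have hloc : ∀ q : MaximalSpectrum B, ∃ v : Fin n → A,
      Submodule.span B (Set.range v) ⊔ (q.asIdeal • ⊤ : Submodule B A) = ⊤ := by
    intro q
    haveI : q.asIdeal.IsMaximal := q.isMaximal
    obtain ⟨P, hP, hPq⟩ := Ideal.exists_maximal_ideal_liesOver_of_isIntegral (S := A) q.asIdeal
    haveI := hP
    letI : Field (A ⧸ P) := Ideal.Quotient.field P
    haveI : Algebra.IsIntegral k (A ⧸ P) := Algebra.IsIntegral.of_finite k _
    let e := (AlgEquiv.ofBijective (Algebra.ofId k (A ⧸ P))
      (IsAlgClosed.algebraMap_bijective_of_isIntegral (k := k) (K := A ⧸ P)))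
    let α : A →ₐ[k] k := e.symm.toAlgHom.comp (Ideal.Quotient.mkₐ k P)
    have hαP : ∀ x, α x = 0 → x ∈ P := fun x hx => by
      rw [← Ideal.Quotient.eq_zero_iff_mem]
      simpa [α] using hx
    have hp : ∀ b : B, b - algebraMap k B (α b) ∈ q.asIdeal := by
      intro b
      rw [hPq.over, Ideal.mem_comap]
      apply hαP
      show α ((b : A) - algebraMap k A (α (b : A))) = 0
      rw [map_sub, AlgHom.commutes]
      simp
    obtain ⟨ψ, hψ⟩ := exists_surjective_fibre I α q.asIdeal hp
    choose v hv using fun i => Ideal.Quotient.mk_surjective (ψ (Module.finBasis k (A ⧸ I) i))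
    refine ⟨v, eq_top_iff.2 fun x _ => ?_⟩
    obtain ⟨y, hy⟩ := hψ (Ideal.Quotient.mk _ x)
    have hx : x - ∑ i, (Module.finBasis k (A ⧸ I)).repr y i • v i ∈ (q.asIdeal • ⊤ : Submodule B A) := by
      rw [Ideal.smul_top_eq_map, Submodule.restrictScalars_mem, ← Ideal.Quotient.eq_zero_iff_mem, map_sub,
        ← hy]
      conv_lhs => arg 1; rw [← (Module.finBasis k (A ⧸ I)).sum_repr y]
      simp only [map_sum, map_smul, ← hv]
      rw [sub_eq_zero]
      exact Finset.sum_congr rfl fun i _ => rfl
    rw [← sub_add_cancel x (∑ i, (Module.finBasis k (A ⧸ I)).repr y i • v i), add_comm]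
    refine Submodule.add_mem_sup (Submodule.sum_mem _ fun i _ => ?_) hx
    exact Submodule.smul_of_tower_mem _ _ (Submodule.subset_span ⟨i, rfl⟩)
  obtain ⟨a, hspan⟩ := exists_spanning n hloc
  let T := transl (Ideal.Quotient.mkₐ k I)
  have hTB : ∀ (b : B) (x : A), T (b • x) = (b : A) • T x := by
    intro b x
    show T ((b : A) * x) = _
    rw [map_mul, show T (b : A) = (b : A) ⊗ₜ[k] 1 from b.2, Algebra.smul_def,
      Algebra.TensorProduct.algebraMap_apply]
    rfl
  have hTspan : ⊤ ≤ Submodule.span A (Set.range (T ∘ a)) := by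
    rw [← span_range_transl I, Submodule.span_le]
    rintro _ ⟨x, rfl⟩
    have hx : x ∈ Submodule.span B (Set.range a) := hspan ▸ trivial
    induction hx using Submodule.span_induction with
    | mem y hy => obtain ⟨i, rfl⟩ := hy; exact Submodule.subset_span ⟨i, rfl⟩
    | zero => simp
    | add y z _ _ hy hz => rw [map_add]; exact add_mem hy hz
    | smul b y _ hy => rw [hTB]; exact Submodule.smul_mem _ _ hy
  have hrank : Module.finrank A (A ⊗[k] (A ⧸ I)) = n := Module.finrank_baseChange
  have hli : LinearIndependent A (T ∘ a) :=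
    linearIndependent_of_top_le_span_of_card_eq_finrank hTspan (by rw [hrank, Fintype.card_fin])
  have hliB : LinearIndependent B a := by
    rw [Fintype.linearIndependent_iff]
    intro c hc i
    have h1 := congrArg T hc
    rw [map_sum, map_zero] at h1
    simp only [hTB] at h1
    exact Subtype.ext (Fintype.linearIndependent_iff.1 hli (fun i => (c i : A)) h1 i)
  let bas := Module.Basis.mk hliB hspan.ge
  exact ⟨Module.Free.of_basis bas, by rw [Module.finrank_eq_card_basis bas, Fintype.card_fin]⟩

end Main

end Groth.Agent.FinQuot
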